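import Groth.Agent.SoftTop.Extend
import Groth.Agent.SiteBase.Top
import Mathlib.Topology.Sheaves.LocallySurjective

/-!
# Soft sheaves on compact Hausdorff spaces
-/

set_option autoImplicit false
set_option backward.isDefEq.respectTransparency false
set_option backward.isDefEq.respectTransparency.types false
set_option linter.style.haveILetI false

universe u

open CategoryTheory CategoryTheory.Limits Opposite TopologicalSpace TopCat

noncomputable section

namespace Groth.Agent.SoftTop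

variable {K : TopCat.{u}}

/-- Sections near closed subsets agree near them with global sections. -/
def IsSoft (H : CohTop.Ab K) : Prop :=
  ∀ (A : Set K), IsClosed A → ∀ (U : Opens K) (hAU : A ⊆ U) (s : H.obj.obj (op U)),
    ∃ g : H.obj.obj (op ⊤), ∀ (z : K) (hz : z ∈ A),
      TopCat.Presheaf.germ H.obj ⊤ z (Opens.mem_top z) g = TopCat.Presheaf.germ H.obj U z (hAU hz) s

lemma isSoft_of_isFlasque (H : CohTop.Ab K) [hH : TopCat.Sheaf.IsFlasque H] : IsSoft H := by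
  intro A _ U hAU s
  obtain ⟨g, hg⟩ := (AddCommGrpCat.epi_iff_surjective _).1
    (TopCat.Presheaf.IsFlasque.epi (F := H.obj) (homOfLE (le_top : U ≤ ⊤)).op) s
  refine ⟨g, fun z hz => ?_⟩
  rw [← hg]
  exact (TopCat.Presheaf.germ_res_apply H.obj (homOfLE (le_top : U ≤ ⊤)) z (hAU hz) g).symm

/-- The inverse image of a flasque sheaf on a compact subspace with relatively separated points is soft. -/
lemma PullData.isSoft {X : TopCat.{u}} {i : K ⟶ X} {F : CohTop.Ab X} {H : CohTop.Ab K} (D : PullData i F H)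
    (hi : Topology.IsEmbedding i) [CompactSpace K] [TopCat.Sheaf.IsFlasque F]
    (hsep : ∀ x y : K, x ≠ y → ∃ U V : Set X, IsOpen U ∧ IsOpen V ∧ i x ∈ U ∧ i y ∈ V ∧ Disjoint U V) :
    IsSoft H := by
  intro A hA U hAU s
  obtain ⟨W, S, hS⟩ := D.exists_extend hi hA.isCompact (fun x _ y _ h => hsep x y h) hAU s
  obtain ⟨S', hS'⟩ := (AddCommGrpCat.epi_iff_surjective _).1
    (TopCat.Presheaf.IsFlasque.epi (F := F.obj) (homOfLE (le_top : W ≤ ⊤)).op) S
  refine ⟨D.η.app (op ⊤) S', fun z hz => ?_⟩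
  obtain ⟨hW, e⟩ := hS z hz
  refine Eq.trans (D.germ_map (U := ⊤) z (Opens.mem_top z) hW S' S ?_) e
  rw [← hS']
  exact (TopCat.Presheaf.germ_res_apply F.obj (homOfLE (le_top : W ≤ ⊤)) _ hW S').symm

variable {E : ShortComplex (CohTop.Ab K)}

lemma germ_app {F G : CohTop.Ab K} (φ : F ⟶ G) {U : Opens K} (x : K) (hx : x ∈ U) (s : F.obj.obj (op U)) :
    (TopCat.Presheaf.stalkFunctor AddCommGrpCat.{u} x).map φ.hom (TopCat.Presheaf.germ F.obj U x hx s) =
      TopCat.Presheaf.germ G.obj U x hx (φ.hom.app (op U) s) :=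
  TopCat.Presheaf.stalkFunctor_map_germ_apply _ _ _ _ s

/-- Left exactness of sections. -/
lemma exists_preimage (hE : E.ShortExact) {U : Opens K} (y : E.X₂.obj.obj (op U))
    (hy : E.g.hom.app (op U) y = 0) : ∃ x, E.f.hom.app (op U) x = y := by
  haveI := hE.mono_f
  let G := sheafToPresheaf (Opens.grothendieckTopology K) AddCommGrpCat.{u} ⋙
    (evaluation (Opens K)ᵒᵖ AddCommGrpCat.{u}).obj (op U)
  haveI : PreservesFiniteLimits G := comp_preservesFiniteLimits _ _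
  haveI : G.Additive := Functor.additive_of_preserves_binary_products G
  exact (ShortComplex.ab_exact_iff _).1 (ShortComplex.exact_of_f_is_kernel _
    (KernelFork.mapIsLimit _ hE.fIsKernel G) : (E.map G).Exact) y hy

lemma exists_lift (hE : E.ShortExact) {U : Opens K} (z : K) (hz : z ∈ U) (t : E.X₃.obj.obj (op U)) :
    ∃ (V : Opens K) (hV : z ∈ V) (y : E.X₂.obj.obj (op V)),
      TopCat.Presheaf.germ E.X₃.obj V z hV (E.g.hom.app (op V) y) = TopCat.Presheaf.germ E.X₃.obj U z hz t := by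
  have := (TopCat.Presheaf.locally_surjective_iff_surjective_on_stalks E.g.hom).1
    ((TopCat.Sheaf.isLocallySurjective_iff_epi E.g).2 hE.epi_g) z (TopCat.Presheaf.germ E.X₃.obj U z hz t)
  obtain ⟨w, hw⟩ := this
  obtain ⟨V, hV, y, rfl⟩ := TopCat.Presheaf.exists_germ_eq E.X₂.obj w
  exact ⟨V, hV, y, (germ_app E.g z hV y).symm.trans hw⟩

variable [CompactSpace K] [T2Space K]

theorem exists_lift_near (hE : E.ShortExact) (h₁ : IsSoft E.X₁) {C : Set K} (hC : IsClosed C) {U : Opens K}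
    (hCU : C ⊆ U) (t : E.X₃.obj.obj (op U)) :
    ∃ (W : Opens K) (y : E.X₂.obj.obj (op W)), ∀ (z : K) (hz : z ∈ C), ∃ hW : z ∈ W,
      TopCat.Presheaf.germ E.X₃.obj W z hW (E.g.hom.app (op W) y) = TopCat.Presheaf.germ E.X₃.obj U z (hCU hz) t := by
  let P : Set K → Prop := fun T => ∃ (W : Opens K) (y : E.X₂.obj.obj (op W)),
    ∀ (z : K) (hz : z ∈ C), z ∈ closure T → ∃ hW : z ∈ W,
      TopCat.Presheaf.germ E.X₃.obj W z hW (E.g.hom.app (op W) y) = TopCat.Presheaf.germ E.X₃.obj U z (hCU hz) t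
  suffices hP : P C by
    obtain ⟨W, y, h⟩ := hP
    exact ⟨W, y, fun z hz => h z hz (subset_closure hz)⟩
  refine hC.isCompact.induction_on (p := P) ⟨⊥, 0, fun z _ hz => ?_⟩
    (fun T T' hTT' ⟨W, S, h⟩ => ⟨W, S, fun z hz hz' => h z hz (closure_mono hTT' hz')⟩) ?_ ?_
  · simp at hz
  · rintro T₁ T₂ ⟨W₁, y₁, h₁'⟩ ⟨W₂, y₂, h₂'⟩
    obtain ⟨G, hG⟩ := exists_agree E.X₃ (E.g.hom.app (op W₁) y₁) (E.g.hom.app (op W₂) y₂)
    let G' : Opens K := W₁ ⊓ W₂ ⊓ G
    let r₁ : G' ⟶ W₁ := homOfLE (inf_le_left.trans inf_le_left)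
    let r₂ : G' ⟶ W₂ := homOfLE (inf_le_left.trans inf_le_right)
    let d : E.X₂.obj.obj (op G') := E.X₂.obj.map r₁.op y₁ - E.X₂.obj.map r₂.op y₂
    have hd : E.g.hom.app (op G') d = 0 := by
      refine TopCat.Presheaf.section_ext E.X₃ G' _ _ fun z hz => ?_
      show TopCat.Presheaf.germ E.X₃.obj G' z hz _ = TopCat.Presheaf.germ E.X₃.obj G' z hz 0
      obtain ⟨a, b, e⟩ := (hG z).1 hz.2
      rw [map_zero, map_sub, map_sub, ← germ_app E.g z hz, ← germ_app E.g z hz,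
        TopCat.Presheaf.germ_res_apply, TopCat.Presheaf.germ_res_apply, sub_eq_zero]
      exact (germ_app E.g z a y₁).trans (e.trans (germ_app E.g z b y₂).symm)
    obtain ⟨x, hx⟩ := exists_preimage hE d hd
    have hD : C ∩ closure T₁ ∩ (C ∩ closure T₂) ⊆ (G' : Set K) := by
      rintro z ⟨⟨hz, hz₁⟩, -, hz₂⟩
      obtain ⟨hW₁, e₁⟩ := h₁' z hz hz₁
      obtain ⟨hW₂, e₂⟩ := h₂' z hz hz₂
      exact ⟨⟨hW₁, hW₂⟩, (hG z).2 ⟨hW₁, hW₂, e₁.trans e₂.symm⟩⟩
    obtain ⟨x', hx'⟩ := h₁ _ ((hC.inter isClosed_closure).inter (hC.inter isClosed_closure)) G' hD x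
    let z₂ : E.X₂.obj.obj (op W₂) := y₂ + E.X₂.obj.map (homOfLE (le_top : W₂ ≤ ⊤)).op (E.f.hom.app (op ⊤) x')
    have hz₂ : E.g.hom.app (op W₂) z₂ = E.g.hom.app (op W₂) y₂ := by
      have h0 : E.g.hom.app (op W₂) (E.X₂.obj.map (homOfLE (le_top : W₂ ≤ ⊤)).op (E.f.hom.app (op ⊤) x')) = 0 := by
        rw [← ConcreteCategory.comp_apply (E.X₂.obj.map _) (E.g.hom.app _), E.g.hom.naturality,
          ConcreteCategory.comp_apply, ← ConcreteCategory.comp_apply (E.f.hom.app _) (E.g.hom.app _),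
          ← NatTrans.comp_app, ← ObjectProperty.FullSubcategory.comp_hom, E.zero]
        simp
      rw [map_add, h0, add_zero]
    obtain ⟨G₂, hG₂⟩ := exists_agree E.X₂ y₁ z₂
    have hD₂ : C ∩ closure T₁ ∩ (C ∩ closure T₂) ⊆ (G₂ : Set K) := by
      intro z hz
      have hzG := hD hz
      refine (hG₂ z).2 ⟨hzG.1.1, hzG.1.2, ?_⟩
      have e : TopCat.Presheaf.germ E.X₂.obj ⊤ z (Opens.mem_top z) (E.f.hom.app (op ⊤) x') =
          TopCat.Presheaf.germ E.X₂.obj G' z hzG d := by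
        rw [← hx, ← germ_app E.f z (Opens.mem_top z), ← germ_app E.f z hzG, hx' z hz]
      rw [map_add, TopCat.Presheaf.germ_res_apply, e, map_sub, TopCat.Presheaf.germ_res_apply,
        TopCat.Presheaf.germ_res_apply, add_sub_cancel]
    obtain ⟨U₁, U₂, hU₁, hU₂, hA₁, hA₂, hU₁₂⟩ := S3093.result isCompact_univ
      (fun a _ b _ hab => t2_separation hab) (A := C ∩ closure T₁) (B := C ∩ closure T₂) (W := (G₂ : Set K))
      (Set.subset_univ _) (Set.subset_univ _) ((hC.inter isClosed_closure).preimage continuous_subtype_val)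
      ((hC.inter isClosed_closure).preimage continuous_subtype_val) G₂.isOpen hD₂
    let V₁ : Opens K := W₁ ⊓ ⟨U₁, hU₁⟩
    let V₂ : Opens K := W₂ ⊓ ⟨U₂, hU₂⟩
    obtain ⟨S, hS₁, hS₂⟩ := glue₂ E.X₂ (E.X₂.obj.map (homOfLE inf_le_left : V₁ ⟶ W₁).op y₁)
      (E.X₂.obj.map (homOfLE inf_le_left : V₂ ⟶ W₂).op z₂) (fun z hz₁ hz₂' => by
        rw [TopCat.Presheaf.germ_res_apply, TopCat.Presheaf.germ_res_apply]
        obtain ⟨_, _, e⟩ := (hG₂ z).1 (hU₁₂ ⟨hz₁.2, hz₂'.2⟩)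
        exact e)
    refine ⟨V₁ ⊔ V₂, S, fun z hz hzT => ?_⟩
    rw [closure_union] at hzT
    rcases hzT with hzT | hzT
    · obtain ⟨hW, e⟩ := h₁' z hz hzT
      have hV : z ∈ V₁ := ⟨hW, hA₁ ⟨hz, hzT⟩⟩
      refine ⟨Or.inl hV, ?_⟩
      rw [← germ_app E.g z (Or.inl hV), hS₁ z hV, TopCat.Presheaf.germ_res_apply, germ_app, e]
    · obtain ⟨hW, e⟩ := h₂' z hz hzT
      have hV : z ∈ V₂ := ⟨hW, hA₂ ⟨hz, hzT⟩⟩
      refine ⟨Or.inr hV, ?_⟩
      rw [← germ_app E.g z (Or.inr hV), hS₂ z hV, TopCat.Presheaf.germ_res_apply, germ_app, hz₂, e]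
  · intro z hz
    obtain ⟨V, hzV, y, hy⟩ := exists_lift hE z (hCU hz) t
    obtain ⟨G, hG⟩ := exists_agree E.X₃ (E.g.hom.app (op V) y) t
    obtain ⟨N, hN, hNc, hNG⟩ := exists_mem_nhds_isClosed_subset
      (G.isOpen.mem_nhds ((hG z).2 ⟨hzV, hCU hz, hy⟩))
    refine ⟨N, nhdsWithin_le_nhds hN, V, y, fun w hw hwN => ?_⟩
    rw [hNc.closure_eq] at hwN
    obtain ⟨a, _, e⟩ := (hG w).1 (hNG hwN)
    exact ⟨a, e⟩

/-- Global sections are exact on soft kernels. -/
theorem surjective_top (hE : E.ShortExact) (h₁ : IsSoft E.X₁) :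
    Function.Surjective (E.g.hom.app (op ⊤)) := by
  intro t
  obtain ⟨W, y, h⟩ := exists_lift_near hE h₁ isClosed_univ (U := ⊤) (Set.subset_univ _) t
  have hW : (⊤ : Opens K) ≤ W := fun z _ => (h z (Opens.mem_top z)).choose
  refine ⟨E.X₂.obj.map (homOfLE hW).op y, TopCat.Presheaf.section_ext E.X₃ ⊤ _ _ fun z _ => ?_⟩
  obtain ⟨hz, e⟩ := h z (Opens.mem_top z)
  show TopCat.Presheaf.germ E.X₃.obj ⊤ z (Opens.mem_top z) _ = TopCat.Presheaf.germ E.X₃.obj ⊤ z (Opens.mem_top z) _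
  rw [← germ_app E.g z (Opens.mem_top z), TopCat.Presheaf.germ_res_apply, germ_app, e]

theorem isSoft_right (hE : E.ShortExact) (h₁ : IsSoft E.X₁) (h₂ : IsSoft E.X₂) : IsSoft E.X₃ := by
  intro A hA U hAU t
  obtain ⟨W, y, h⟩ := exists_lift_near hE h₁ hA hAU t
  obtain ⟨g, hg⟩ := h₂ A hA W (fun z hz => (h z hz).choose) y
  refine ⟨E.g.hom.app (op ⊤) g, fun z hz => ?_⟩
  obtain ⟨hW, e⟩ := h z hz
  rw [← germ_app E.g z (Opens.mem_top z), hg z hz, germ_app, e]

/-- Soft sheaves on compact Hausdorff spaces are acyclic. -/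
theorem subsingleton_H_of_isSoft (H : CohTop.Ab K) (hH : IsSoft H) (n : ℕ) :
    Subsingleton (CohTop.H H (n + 1)) := by
  refine SiteBase.subsingleton_H_of_HU_terminal isTerminalTop H (n + 1) ?_
  refine SiteBase.subsingleton_HU_of_class (J := Opens.grothendieckTopology K) IsSoft (fun U => U = ⊤)
    ?_ ?_ hH (U := ⊤) rfl n
  · intro E hE h1 h2
    haveI := h2
    haveI := SiteBase.isFlasque_of_injective E.X₂
    exact isSoft_right hE h1 (isSoft_of_isFlasque E.X₂)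
  · rintro E hE h1 h2 U rfl
    exact surjective_top hE h1

end Groth.Agent.SoftTop
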