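import Groth.Agent.SoftTop.BaseChange

/-!
# Proper base change for arbitrary inverse image data
-/

set_option autoImplicit false
set_option backward.isDefEq.respectTransparency false
set_option backward.isDefEq.respectTransparency.types false
set_option linter.style.haveILetI false

universe u

open CategoryTheory CategoryTheory.Limits Opposite TopologicalSpace TopCat

noncomputable section

namespace Groth.Agent.SoftTop

/-- Data composed with an isomorphism of targets. -/
def PullData.ofIso {Z X : TopCat.{u}} {i : Z ⟶ X} {F : CohTop.Ab X} {H H' : CohTop.Ab Z} (D : PullData i F H)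
    (e : H ⟶ H') [IsIso e] (η : F.obj ⟶ (TopCat.Presheaf.pushforward AddCommGrpCat.{u} i).obj H'.obj)
    (hη : D.η ≫ (TopCat.Presheaf.pushforward AddCommGrpCat.{u} i).map e.hom = η) : PullData i F H' where
  η := η
  bij z := by
    haveI : IsIso ((TopCat.Presheaf.stalkFunctor AddCommGrpCat.{u} z).map e.hom) :=
      inferInstanceAs (IsIso ((sheafToPresheaf _ _ ⋙ TopCat.Presheaf.stalkFunctor AddCommGrpCat.{u} z).map e))
    have he : stalkMap i η z = stalkMap i D.η z ≫ (TopCat.Presheaf.stalkFunctor AddCommGrpCat.{u} z).map e.hom := by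
      refine TopCat.Presheaf.stalk_hom_ext _ fun U hU => ?_
      refine ConcreteCategory.hom_ext _ _ fun s => ?_
      simp only [ConcreteCategory.comp_apply]
      rw [germ_stalkMap, germ_stalkMap, ← hη]
      exact (TopCat.Presheaf.stalkFunctor_map_germ_apply _ _ _ _ _).symm
    rw [he]
    exact ((ConcreteCategory.isIso_iff_bijective
      ((TopCat.Presheaf.stalkFunctor AddCommGrpCat.{u} z).map e.hom)).1 inferInstance).comp (D.bij z)

variable {X Y X' Y' : TopCat.{u}} (f : X ⟶ Y) (g : Y' ⟶ Y) (f' : X' ⟶ Y') (g' : X' ⟶ X)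

/-- The geometric hypotheses of proper base change along a square. -/
structure BCSquare : Prop where
  w : ∀ x', f (g' x') = g (f' x')
  emb : Topology.IsEmbedding (fun x => (g' x, f' x))
  pts : ∀ (x : X) (y : Y'), f x = g y → ∃ x', g' x' = x ∧ f' x' = y
  proper : IsProperMap f
  proper' : IsProperMap f'
  sep : ∀ x x' : X, f x = f x' → x ≠ x' → ∃ U V : Set X, IsOpen U ∧ IsOpen V ∧ x ∈ U ∧ x' ∈ V ∧ Disjoint U V

variable {f g f' g'}

/-- The fibres of the square. -/
lemma BCSquare.fibre (h : BCSquare f g f' g') (y' : Y') :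
    ∃ (Z : TopCat.{u}) (i : Z ⟶ X'), CompactSpace Z ∧ Topology.IsEmbedding i ∧ Topology.IsEmbedding (i ≫ g') ∧
      (∀ z, f' (i z) = y') ∧ (∀ x, f' x = y' → x ∈ Set.range i) ∧ (∀ x, f x = g y' → x ∈ Set.range (i ≫ g')) ∧
      ∀ a b : Z, a ≠ b → ∃ U V : Set X, IsOpen U ∧ IsOpen V ∧ g' (i a) ∈ U ∧ g' (i b) ∈ V ∧ Disjoint U V := by
  refine ⟨TopCat.of (f' ⁻¹' {y'} : Set X'), TopCat.ofHom ⟨Subtype.val, continuous_subtype_val⟩,
    isCompact_iff_compactSpace.mp (h.proper'.isCompact_preimage isCompact_singleton), Topology.IsEmbedding.subtypeVal,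
    ?_, fun z => z.2, fun x hx => ⟨⟨x, hx⟩, rfl⟩, fun x hx => ?_, fun a b hab => ?_⟩
  · refine Topology.IsEmbedding.of_comp (g := fun x : X => (x, y'))
      (g'.hom.continuous.comp continuous_subtype_val) (continuous_id.prodMk continuous_const) ?_
    convert h.emb.comp Topology.IsEmbedding.subtypeVal using 1
    exact funext fun z => Prod.ext rfl (z.2 : f' z.1 = y').symm
  · obtain ⟨x', h₁, h₂⟩ := h.pts x y' hx
    exact ⟨⟨x', h₂⟩, h₁⟩
  · have e : f' a.1 = f' b.1 := (a.2 : f' a = y').trans (b.2 : f' b = y').symm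
    exact h.sep _ _ ((h.w a.1).trans ((congrArg g e).trans (h.w b.1).symm)) fun eg => hab (Subtype.ext (h.emb.injective (Prod.ext eg e)))

lemma BCSquare.isIso_of_data (h : BCSquare f g f' g') {F : CohTop.Ab X} {G' : CohTop.Ab X'} (D : PullData g' F G')
    (θ₀ : ((CohTop.push f).obj F).obj ⟶
      (TopCat.Presheaf.pushforward AddCommGrpCat.{u} g).obj ((CohTop.push f').obj G').obj)
    (hθ : ∀ (V : Opens Y) (s : F.obj.obj (op ((Opens.map f).obj V))),
      θ₀.app (op V) s = G'.obj.map (homOfLE (map_map_le f g f' g' h.w V)).op (D.η.app (op ((Opens.map f).obj V)) s))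
    (β : (CohTop.pull g).obj ((CohTop.push f).obj F) ⟶ (CohTop.push f').obj G')
    (hβ : (pullData g ((CohTop.push f).obj F)).η ≫
      (TopCat.Presheaf.pushforward AddCommGrpCat.{u} g).map β.hom = θ₀) : IsIso β := by
  haveI : ∀ y' : Y', IsIso ((TopCat.Presheaf.stalkFunctor AddCommGrpCat.{u} y').map β.hom) := fun y' => by
    obtain ⟨Z, i, hZ, hi, hi', hfib, hrange, hrange', hsep⟩ := h.fibre y'
    have hfib' : ∀ z, f ((i ≫ g') z) = g y' := fun z => by
      show f (g' (i z)) = _
      rw [h.w, hfib]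
    have hsep' : ∀ a b : Z, a ≠ b →
        ∃ U V : Set X', IsOpen U ∧ IsOpen V ∧ i a ∈ U ∧ i b ∈ V ∧ Disjoint U V := fun a b hab => by
      obtain ⟨U, V, hU, hV, ha, hb, hd⟩ := hsep a b hab
      exact ⟨_, _, hU.preimage g'.hom.continuous, hV.preimage g'.hom.continuous, ha, hb, hd.preimage _⟩
    let D' := pullData i G'
    let D'' := D.comp D'
    have h1 := bijective_fibreMap f' y' hfib D' h.proper'.isClosedMap hi hrange hsep'
    have h2 := bijective_fibreMap f (g y') hfib' D'' h.proper.isClosedMap hi' hrange' hsep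
    have hθ₁ : stalkMap g (H := ((CohTop.push f').obj G').obj) θ₀ y' ≫ fibreMap f' y' hfib D' =
        fibreMap f (g y') hfib' D'' := by
      refine TopCat.Presheaf.stalk_hom_ext _ fun V hV => ?_
      refine ConcreteCategory.hom_ext _ _ fun s => ?_
      simp only [ConcreteCategory.comp_apply]
      rw [germ_stalkMap, germ_fibreMap, germ_fibreMap, hθ]
      refine TopCat.Presheaf.section_ext ((CohTop.pull i).obj G') ⊤ _ _ fun z _ => ?_
      refine (germ_fibreComp f' y' hfib D' hV _ z).trans
        (Eq.trans ?_ (germ_fibreComp f (g y') hfib' D'' hV s z).symm)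
      exact D'.germ_map z _ (top_le_fibre f (i ≫ g') (g y') hfib' hV (Opens.mem_top z)) _ _
        (TopCat.Presheaf.germ_res_apply G'.obj (homOfLE (map_map_le f g f' g' h.w V)) (i z) _ _)
    have hθ' : Function.Bijective (stalkMap g (H := ((CohTop.push f').obj G').obj) θ₀ y') := by
      refine (Function.Bijective.of_comp_iff' h1 _).1 ?_
      have : Function.Bijective (stalkMap g (H := ((CohTop.push f').obj G').obj) θ₀ y' ≫
          fibreMap f' y' hfib D') := by rw [hθ₁]; exact h2
      exact this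
    have e : stalkMap g (pullData g ((CohTop.push f).obj F)).η y' ≫
        (TopCat.Presheaf.stalkFunctor AddCommGrpCat.{u} y').map β.hom =
        stalkMap g (H := ((CohTop.push f').obj G').obj) θ₀ y' := by
      refine TopCat.Presheaf.stalk_hom_ext _ fun V hV => ?_
      refine ConcreteCategory.hom_ext _ _ fun s => ?_
      simp only [ConcreteCategory.comp_apply]
      rw [germ_stalkMap, ← hβ]
      erw [germ_stalkMap]
      exact TopCat.Presheaf.stalkFunctor_map_germ_apply _ _ _ _ _
    refine (ConcreteCategory.isIso_iff_bijective _).2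
      ((Function.Bijective.of_comp_iff _ ((pullData g ((CohTop.push f).obj F)).bij y')).1 ?_)
    rw [← e] at hθ'
    exact hθ'
  exact TopCat.Presheaf.isIso_of_stalkFunctor_map_iso β

lemma BCSquare.isZero_rpush (h : BCSquare f g f' g') {F : CohTop.Ab X} [TopCat.Sheaf.IsFlasque F]
    {G' : CohTop.Ab X'} (D : PullData g' F G') (q : ℕ) : IsZero ((CohTop.Rpush f' (q + 1)).obj G') := by
  refine (IsZero.iff_id_eq_zero _).2 (CategoryTheory.Sheaf.hom_ext ?_)
  refine NatTrans.ext (funext fun V => ConcreteCategory.hom_ext _ _ fun s => ?_)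
  refine TopCat.Presheaf.section_ext ((CohTop.Rpush f' (q + 1)).obj G') V.unop _ _ fun y' hy => ?_
  obtain ⟨Z, i, hZ, hi, hi', hfib, hr, hr', hsep⟩ := h.fibre y'
  haveI := hZ
  haveI : T2Space Z := ⟨fun a b hab => by
    obtain ⟨U, V, hU, hV, ha, hb, hd⟩ := hsep a b hab
    exact ⟨_, _, hU.preimage hi'.continuous, hV.preimage hi'.continuous, ha, hb, hd.preimage _⟩⟩
  have hsep' : ∀ a b : Z, a ≠ b →
      ∃ U V : Set X', IsOpen U ∧ IsOpen V ∧ i a ∈ U ∧ i b ∈ V ∧ Disjoint U V := fun a b hab => by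
    obtain ⟨U, V, hU, hV, ha, hb, hd⟩ := hsep a b hab
    exact ⟨_, _, hU.preimage g'.hom.continuous, hV.preimage g'.hom.continuous, ha, hb, hd.preimage _⟩
  obtain ⟨e⟩ := rpush_stalk f' i y' h.proper'.isClosedMap hi hr hsep' hfib G' (q + 1)
  haveI := subsingleton_H_of_isSoft _ ((D.comp (pullData i G')).isSoft hi' hsep) q
  haveI : Subsingleton (CohTop.stalk ((CohTop.Rpush f' (q + 1)).obj G') y') :=
    e.addCommGroupIsoToAddEquiv.toEquiv.subsingleton
  exact Subsingleton.elim (α := CohTop.stalk ((CohTop.Rpush f' (q + 1)).obj G') y') _ _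

end Groth.Agent.SoftTop
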