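import Groth.Agent.SoftTop.PullData
import Groth.Agent.S3093
import Mathlib.Topology.Separation.Regular

/-!
# Extending sections of an inverse image near a compact, relatively separated subspace
-/

set_option autoImplicit false
set_option backward.isDefEq.respectTransparency false
set_option backward.isDefEq.respectTransparency.types false
set_option linter.style.haveILetI false

universe u

open CategoryTheory CategoryTheory.Limits Opposite TopologicalSpace TopCat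

noncomputable section

namespace Groth.Agent.SoftTop

variable {X Z : TopCat.{u}}

/-- Gluing of two sections along their germs. -/
lemma glue₂ (F : CohTop.Ab X) {U V : Opens X} (s : F.obj.obj (op U)) (t : F.obj.obj (op V))
    (h : ∀ x (hU : x ∈ U) (hV : x ∈ V),
      TopCat.Presheaf.germ F.obj U x hU s = TopCat.Presheaf.germ F.obj V x hV t) :
    ∃ S : F.obj.obj (op (U ⊔ V)),
      (∀ x (hU : x ∈ U), TopCat.Presheaf.germ F.obj (U ⊔ V) x (Or.inl hU) S = TopCat.Presheaf.germ F.obj U x hU s) ∧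
      (∀ x (hV : x ∈ V), TopCat.Presheaf.germ F.obj (U ⊔ V) x (Or.inr hV) S = TopCat.Presheaf.germ F.obj V x hV t) := by
  let W : ULift.{u} Bool → Opens X := fun b => if b.down then U else V
  let sf : ∀ b : ULift.{u} Bool, F.obj.obj (op (W b)) := fun b => match b with
    | ⟨true⟩ => s
    | ⟨false⟩ => t
  have le : ∀ b, W b ≤ U ⊔ V := by
    rintro ⟨_ | _⟩
    · exact le_sup_right
    · exact le_sup_left
  have hc : TopCat.Presheaf.IsCompatible F.obj W sf := by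
    intro a b
    refine TopCat.Presheaf.section_ext F _ _ _ fun x hx => ?_
    show TopCat.Presheaf.germ F.obj _ x hx _ = TopCat.Presheaf.germ F.obj _ x hx _
    rw [TopCat.Presheaf.germ_res_apply, TopCat.Presheaf.germ_res_apply]
    obtain ⟨_ | _⟩ := a <;> obtain ⟨_ | _⟩ := b
    · rfl
    · exact (h x hx.2 hx.1).symm
    · exact h x hx.1 hx.2
    · rfl
  obtain ⟨S, hS, -⟩ := TopCat.Sheaf.existsUnique_gluing' (F := F) W (U ⊔ V) (fun b => homOfLE (le b))
    (sup_le (le_iSup W ⟨true⟩) (le_iSup W ⟨false⟩)) sf hc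
  refine ⟨S, fun x hU => ?_, fun x hV => ?_⟩
  · have e : (sf ⟨true⟩ : F.obj.obj (op U)) = s := rfl
    rw [← e, ← hS ⟨true⟩]
    exact (TopCat.Presheaf.germ_res_apply F.obj (homOfLE (le ⟨true⟩)) x hU S).symm
  · have e : (sf ⟨false⟩ : F.obj.obj (op V)) = t := rfl
    rw [← e, ← hS ⟨false⟩]
    exact (TopCat.Presheaf.germ_res_apply F.obj (homOfLE (le ⟨false⟩)) x hV S).symm

/-- The points where two sections have the same germ form an open set. -/
lemma exists_agree (F : CohTop.Ab X) {U V : Opens X} (s : F.obj.obj (op U)) (t : F.obj.obj (op V)) :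
    ∃ W : Opens X, ∀ x, x ∈ W ↔ ∃ (hU : x ∈ U) (hV : x ∈ V),
      TopCat.Presheaf.germ F.obj U x hU s = TopCat.Presheaf.germ F.obj V x hV t := by
  refine ⟨⟨{x | ∃ (hU : x ∈ U) (hV : x ∈ V),
      TopCat.Presheaf.germ F.obj U x hU s = TopCat.Presheaf.germ F.obj V x hV t}, ?_⟩, fun x => Iff.rfl⟩
  refine isOpen_iff_forall_mem_open.2 fun x ⟨hU, hV, hx⟩ => ?_
  obtain ⟨W, hxW, a, b, e⟩ := TopCat.Presheaf.germ_eq F.obj x hU hV s t hx
  refine ⟨W, fun y hy => ⟨a.le hy, b.le hy, ?_⟩, W.isOpen, hxW⟩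
  have := congrArg (TopCat.Presheaf.germ F.obj W y hy) e
  rwa [TopCat.Presheaf.germ_res_apply, TopCat.Presheaf.germ_res_apply] at this

variable {i : Z ⟶ X} {F : CohTop.Ab X} {H : CohTop.Ab Z}

/-- A section of an inverse image near a compact subset with relatively separated points is, near
this subset, the inverse image of a section. -/
theorem PullData.exists_extend (D : PullData i F H) (hi : Topology.IsEmbedding i) {A : Set Z} (hA : IsCompact A)
    (hsep : ∀ x ∈ A, ∀ y ∈ A, x ≠ y →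
      ∃ U V : Set X, IsOpen U ∧ IsOpen V ∧ i x ∈ U ∧ i y ∈ V ∧ Disjoint U V)
    {U : Opens Z} (hAU : A ⊆ U) (s : H.obj.obj (op U)) :
    ∃ (W : Opens X) (S : F.obj.obj (op W)), ∀ (z : Z) (hz : z ∈ A), ∃ hW : i z ∈ W,
      TopCat.Presheaf.germ H.obj ((Opens.map i).obj W) z hW (D.η.app (op W) S) =
        TopCat.Presheaf.germ H.obj U z (hAU hz) s := by
  haveI : CompactSpace A := isCompact_iff_compactSpace.mp hA
  haveI : T2Space A := ⟨fun x y hxy => by
    obtain ⟨V₁, V₂, h₁, h₂, hx, hy, hd⟩ := hsep x x.2 y y.2 (fun h => hxy (Subtype.ext h))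
    exact ⟨_, _, h₁.preimage (hi.continuous.comp continuous_subtype_val),
      h₂.preimage (hi.continuous.comp continuous_subtype_val), hx, hy, hd.preimage _⟩⟩
  -- the property to be propagated
  let P : Set Z → Prop := fun T => ∃ (W : Opens X) (S : F.obj.obj (op W)),
    ∀ (z : Z) (hz : z ∈ A), z ∈ closure T → ∃ hW : i z ∈ W,
      TopCat.Presheaf.germ H.obj ((Opens.map i).obj W) z hW (D.η.app (op W) S) =
        TopCat.Presheaf.germ H.obj U z (hAU hz) s
  suffices hP : P A by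
    obtain ⟨W, S, h⟩ := hP
    exact ⟨W, S, fun z hz => h z hz (subset_closure hz)⟩
  refine hA.induction_on (p := P) ⟨⊥, 0, fun z _ hz => ?_⟩
    (fun T T' hTT' ⟨W, S, h⟩ => ⟨W, S, fun z hz hz' => h z hz (closure_mono hTT' hz')⟩) ?_ ?_
  · simp at hz
  · rintro T₁ T₂ ⟨W₁, S₁, h₁⟩ ⟨W₂, S₂, h₂⟩
    obtain ⟨G, hG⟩ := exists_agree F S₁ S₂
    have hK : IsCompact (i '' A) := hA.image hi.continuous
    have hsep' : ∀ x ∈ i '' A, ∀ y ∈ i '' A, x ≠ y →
        ∃ V₁ V₂ : Set X, IsOpen V₁ ∧ IsOpen V₂ ∧ x ∈ V₁ ∧ y ∈ V₂ ∧ Disjoint V₁ V₂ := by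
      rintro _ ⟨a, ha, rfl⟩ _ ⟨b, hb, rfl⟩ hab
      exact hsep a ha b hb (fun h => hab (h ▸ rfl))
    have clos : ∀ T : Set Z, IsClosed (Subtype.val ⁻¹' (i '' (A ∩ closure T)) : Set (i '' A)) := fun T => by
      obtain ⟨C, hC, hCT⟩ := hi.isClosed_iff.1 (isClosed_closure (s := T))
      convert hC.preimage continuous_subtype_val using 1
      ext ⟨x, a, ha, rfl⟩
      simp only [Set.mem_preimage, hi.injective.mem_set_image, Set.mem_inter_iff, ha, true_and]
      rw [← hCT, Set.mem_preimage]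
    obtain ⟨U₁, U₂, hU₁, hU₂, hA₁, hA₂, hU₁₂⟩ := S3093.result hK hsep' (A := i '' (A ∩ closure T₁))
      (B := i '' (A ∩ closure T₂)) (W := (G : Set X)) (Set.image_mono Set.inter_subset_left)
      (Set.image_mono Set.inter_subset_left) (clos T₁) (clos T₂) G.isOpen (by
        rintro _ ⟨⟨a, ⟨ha, ha₁⟩, rfl⟩, b, ⟨hb, hb₂⟩, hab⟩
        obtain rfl := hi.injective hab
        obtain ⟨hW₁, e₁⟩ := h₁ b hb ha₁
        obtain ⟨hW₂, e₂⟩ := h₂ b hb hb₂
        exact (hG (i b)).2 ⟨hW₁, hW₂, D.germ_eq b hW₁ hW₂ S₁ S₂ (e₁.trans e₂.symm)⟩)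
    let V₁ : Opens X := W₁ ⊓ ⟨U₁, hU₁⟩
    let V₂ : Opens X := W₂ ⊓ ⟨U₂, hU₂⟩
    obtain ⟨S, hS₁, hS₂⟩ := glue₂ F (F.obj.map (homOfLE inf_le_left : V₁ ⟶ W₁).op S₁)
      (F.obj.map (homOfLE inf_le_left : V₂ ⟶ W₂).op S₂) (fun x hx₁ hx₂ => by
        rw [TopCat.Presheaf.germ_res_apply, TopCat.Presheaf.germ_res_apply]
        obtain ⟨_, _, e⟩ := (hG x).1 (hU₁₂ ⟨hx₁.2, hx₂.2⟩)
        exact e)
    refine ⟨V₁ ⊔ V₂, S, fun z hz hzT => ?_⟩
    rw [closure_union] at hzT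
    rcases hzT with hzT | hzT
    · obtain ⟨hW, e⟩ := h₁ z hz hzT
      have hV : i z ∈ V₁ := ⟨hW, hA₁ ⟨z, ⟨hz, hzT⟩, rfl⟩⟩
      exact ⟨Or.inl hV, (D.germ_map z _ hW S S₁ ((hS₁ (i z) hV).trans
        (TopCat.Presheaf.germ_res_apply F.obj _ _ _ _))).trans e⟩
    · obtain ⟨hW, e⟩ := h₂ z hz hzT
      have hV : i z ∈ V₂ := ⟨hW, hA₂ ⟨z, ⟨hz, hzT⟩, rfl⟩⟩
      exact ⟨Or.inr hV, (D.germ_map z _ hW S S₂ ((hS₂ (i z) hV).trans
        (TopCat.Presheaf.germ_res_apply F.obj _ _ _ _))).trans e⟩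
  · intro z hz
    obtain ⟨W, hW, σ, hσ⟩ := D.exists_germ s z (hAU hz)
    obtain ⟨V, hV⟩ := exists_agree H (D.η.app (op W) σ) s
    obtain ⟨O, hO, hOV⟩ := hi.isOpen_iff.1 V.isOpen
    have hzO : (⟨z, hz⟩ : A) ∈ ((fun a : A => i a) ⁻¹' O : Set A) := by
      have : z ∈ (V : Set Z) := (hV z).2 ⟨hW, hAU hz, hσ⟩
      rw [← hOV] at this
      exact this
    obtain ⟨C, hC, hCc, hCO⟩ := exists_mem_nhds_isClosed_subset
      ((hO.preimage (hi.continuous.comp continuous_subtype_val)).mem_nhds hzO)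
    refine ⟨Subtype.val '' C, ?_, W, σ, fun y hy hyC => ?_⟩
    · rw [← map_nhds_subtype_val ⟨z, hz⟩]
      exact Filter.image_mem_map hC
    · have : (⟨y, hy⟩ : A) ∈ C := by
        rw [← hCc.closure_eq, closure_subtype]
        exact hyC
      have hyV : y ∈ (V : Set Z) := by
        rw [← hOV]
        exact hCO this
      obtain ⟨h, _, e⟩ := (hV y).1 hyV
      exact ⟨h, e⟩

end Groth.Agent.SoftTop
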