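import Groth.Prelude.Def_CohTop
import Groth.Agent.SiteBase.OpenRestr
import Mathlib.Topology.Sheaves.SheafCondition.UniqueGluing

/-!
# Cohomology of a space covered by pairwise disjoint open subsets
-/

set_option autoImplicit false

universe u

open CategoryTheory CategoryTheory.Limits Opposite Abelian TopologicalSpace Topology

noncomputable section

namespace Groth.Agent.SoftTop

section Ext

variable {C : Type*} [Category* C] [Abelian C] [EnoughInjectives C] [HasExt.{u} C]
  {I : Type*} {A : I → C} {S : C} (ι : ∀ i, A i ⟶ S)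

/-- The components of an extension class out of a coproduct. -/
def extComponents (G : C) (n : ℕ) : Ext S G n →+ ∀ i, Ext (A i) G n :=
  Pi.addMonoidHom fun i => (Ext.mk₀ (ι i)).precomp G (zero_add n)

lemma extComponents_apply {G : C} {n : ℕ} (x : Ext S G n) (i : I) :
    extComponents ι G n x i = (Ext.mk₀ (ι i)).comp x (zero_add n) := rfl

lemma bijective_extComponents
    (h : ∀ G : C, Function.Bijective fun (φ : S ⟶ G) i => ι i ≫ φ) (G : C) (n : ℕ) :
    Function.Bijective (extComponents ι G n) := by
  classical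
  induction n generalizing G with
  | zero =>
    refine ⟨fun a b hab => ?_, fun y => ?_⟩
    · obtain ⟨a, rfl⟩ := (Ext.mk₀_bijective S G).2 a
      obtain ⟨b, rfl⟩ := (Ext.mk₀_bijective S G).2 b
      congr 1
      refine (h G).1 (funext fun i => (Ext.mk₀_bijective _ _).1 ?_)
      have := congrFun hab i
      rwa [extComponents_apply, extComponents_apply, Ext.mk₀_comp_mk₀, Ext.mk₀_comp_mk₀] at this
    · choose ψ hψ using fun i => (Ext.mk₀_bijective (A i) G).2 (y i)
      obtain ⟨φ, hφ⟩ := (h G).2 ψ
      refine ⟨Ext.mk₀ φ, funext fun i => ?_⟩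
      rw [extComponents_apply, Ext.mk₀_comp_mk₀, ← hψ]
      exact congrArg Ext.mk₀ (congrFun hφ i)
  | succ n ih =>
    let P : InjectivePresentation G := Classical.arbitrary _
    have hS := P.shortExact_shortComplex
    haveI : Injective P.shortComplex.X₂ := P.injective
    have key : ∀ (q : Ext S P.shortComplex.X₃ n) (i : I),
        extComponents ι G (n + 1) (q.comp hS.extClass rfl) i =
          (extComponents ι P.shortComplex.X₃ n q i).comp hS.extClass rfl := fun q i => by
      rw [extComponents_apply, extComponents_apply]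
      exact (Ext.comp_assoc (Ext.mk₀ (ι i)) q hS.extClass (zero_add n) rfl (by omega)).symm
    refine ⟨(injective_iff_map_eq_zero _).2 fun x hx => ?_, fun y => ?_⟩
    · obtain ⟨q, rfl⟩ := Ext.covariant_sequence_exact₁ _ hS x
        (Ext.eq_zero_of_injective _) (n₀ := n) rfl
      choose r hr using fun i => Ext.covariant_sequence_exact₃ _ hS
        (extComponents ι P.shortComplex.X₃ n q i) (n₁ := n + 1) rfl ((key q i).symm.trans (congrFun hx i))
      obtain ⟨r', hr'⟩ := (ih P.shortComplex.X₂).2 r
      have hq : q = r'.comp (Ext.mk₀ P.shortComplex.g) (add_zero n) := by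
        refine (ih _).1 (funext fun i => ?_)
        rw [← hr i, ← hr', extComponents_apply, extComponents_apply]
        exact (Ext.comp_assoc (Ext.mk₀ (ι i)) r' (Ext.mk₀ P.shortComplex.g) (zero_add n) (add_zero n) (by omega))
      rw [hq, Ext.comp_assoc_of_second_deg_zero, hS.comp_extClass, Ext.comp_zero]
    · choose q hq using fun i => Ext.covariant_sequence_exact₁ _ hS (y i)
        (Ext.eq_zero_of_injective _) (n₀ := n) rfl
      obtain ⟨q', hq'⟩ := (ih P.shortComplex.X₃).2 q
      refine ⟨q'.comp hS.extClass rfl, funext fun i => ?_⟩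
      rw [key, hq', hq]

/-- Extension groups out of a coproduct are products. -/
def extComponentsEquiv (h : ∀ G : C, Function.Bijective fun (φ : S ⟶ G) i => ι i ≫ φ) (G : C) (n : ℕ) :
    Ext S G n ≃+ ∀ i, Ext (A i) G n :=
  AddEquiv.ofBijective _ (bijective_extComponents ι h G n)

end Ext

section Disjoint

variable {Z : TopCat.{u}} {I : Type u} (U : I → Opens Z)

lemma bijective_sections (hdisj : Pairwise fun i j => Disjoint (U i : Set Z) (U j : Set Z))
    (hcov : ⋃ i, (U i : Set Z) = Set.univ) (F : CohTop.Ab Z) :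
    Function.Bijective fun (s : F.obj.obj (op (⊤ : Opens Z))) i => (F.obj.map (homOfLE le_top : U i ⟶ ⊤).op).hom s := by
  have hsup : (⊤ : Opens Z) ≤ iSup U := fun z _ => by
    obtain ⟨i, hi⟩ := Set.mem_iUnion.1 (hcov.ge (Set.mem_univ z))
    exact Opens.mem_iSup.2 ⟨i, hi⟩
  refine ⟨fun s t hst => TopCat.Sheaf.eq_of_locally_eq' F U ⊤ (fun i => homOfLE le_top) hsup s t
    fun i => congrFun hst i, fun sf => ?_⟩
  have compat : TopCat.Presheaf.IsCompatible F.obj U sf := fun i j => by
    by_cases hij : i = j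
    · subst hij
      rfl
    · have : U i ⊓ U j = ⊥ := Opens.ext (Set.disjoint_iff_inter_eq_empty.1 (hdisj hij))
      haveI : Subsingleton (F.obj.obj (op (U i ⊓ U j))) := by
        rw [this]
        exact AddCommGrpCat.subsingleton_of_isZero (IsZero.of_iso (isZero_zero _) ((TopCat.Sheaf.isTerminalOfEmpty F).uniqueUpToIso HasZeroObject.zeroIsTerminal))
      exact Subsingleton.elim _ _
  obtain ⟨s, hs, -⟩ := TopCat.Sheaf.existsUnique_gluing' F U ⊤ (fun i => homOfLE le_top) hsup sf compat
  exact ⟨s, funext hs⟩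

/-- Cohomology of a space covered by disjoint opens. -/
theorem nonempty_H_addEquiv_pi (hdisj : Pairwise fun i j => Disjoint (U i : Set Z) (U j : Set Z))
    (hcov : ⋃ i, (U i : Set Z) = Set.univ) (F : CohTop.Ab Z) (n : ℕ) :
    Nonempty (CohTop.H F n ≃+ ∀ i, CohTop.HU F n (U i)) := by
  refine ⟨(SiteBase.huTerminalEquiv isTerminalTop F n).symm.trans
    (extComponentsEquiv (fun i => CohCx.freeSheafMap (Opens.grothendieckTopology Z) (homOfLE le_top : U i ⟶ ⊤))
      (fun G => ?_) F n)⟩
  have hb : Function.Bijective ((fun (s : ∀ i, G.obj.obj (op (U i))) i => (SiteBase.secEquiv (Opens.grothendieckTopology Z) (U i) G).symm (s i)) ∘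
      (fun (s : G.obj.obj (op (⊤ : Opens Z))) i => (G.obj.map (homOfLE le_top : U i ⟶ ⊤).op).hom s) ∘
      SiteBase.secEquiv (Opens.grothendieckTopology Z) ⊤ G) :=
    ((Equiv.piCongrRight fun i => (SiteBase.secEquiv _ (U i) G).symm.toEquiv).bijective.comp
      (bijective_sections U hdisj hcov G)).comp (SiteBase.secEquiv _ ⊤ G).bijective
  convert hb using 1
  funext φ i
  refine (SiteBase.secEquiv _ (U i) G).injective ?_
  simp only [Function.comp_apply, AddEquiv.apply_symm_apply]
  exact SiteBase.secEquiv_freeSheafMap _ _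

end Disjoint

section OpenEmb

variable {Y Z X : TopCat.{u}}

/-- The inverse image along an open embedding is the restriction. -/
def pullOpenIso (j : Y ⟶ Z) (hj : IsOpenEmbedding j) :
    haveI := hj.functor_isContinuous
    CohTop.pull j ≅ hj.isOpenMap.functor.sheafPushforwardContinuous AddCommGrpCat.{u}
      (Opens.grothendieckTopology Y) (Opens.grothendieckTopology Z) :=
  haveI := hj.functor_isContinuous
  Adjunction.leftAdjointUniq (TopCat.Sheaf.pullbackPushforwardAdjunction AddCommGrpCat.{u} j)
    (hj.isOpenMap.adjunction.sheafPushforwardContinuous (E := AddCommGrpCat.{u})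
      (Opens.grothendieckTopology Y) (Opens.grothendieckTopology Z))

/-- Inverse images compose. -/
def pullCompTop (f : Y ⟶ Z) (g : Z ⟶ X) : CohTop.pull g ⋙ CohTop.pull f ≅ CohTop.pull (f ≫ g) :=
  Adjunction.leftAdjointUniq
    ((TopCat.Sheaf.pullbackPushforwardAdjunction AddCommGrpCat.{u} g).comp
      (TopCat.Sheaf.pullbackPushforwardAdjunction AddCommGrpCat.{u} f))
    ((TopCat.Sheaf.pullbackPushforwardAdjunction AddCommGrpCat.{u} (f ≫ g)).ofNatIsoRight (Iso.refl _))

/-- The range of an open embedding. -/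
def rangeOpen (j : Y ⟶ Z) (hj : IsOpenEmbedding j) : Opens Z :=
  ⟨Set.range j, hj.isOpen_range⟩

theorem nonempty_H_pull_addEquiv (j : Y ⟶ Z) (hj : IsOpenEmbedding j) (F : CohTop.Ab Z) (n : ℕ) :
    Nonempty (CohTop.H ((CohTop.pull j).obj F) n ≃+ CohTop.HU F n (rangeOpen j hj)) := by
  haveI := hj.functor_isContinuous
  haveI := SiteBase.isCocontinuous_openFunctor hj
  obtain ⟨e⟩ := SiteBase.nonempty_HU_push_addEquiv hj.isOpenMap.functor (⊤ : Opens Y)
    (J := Opens.grothendieckTopology Z) (K := Opens.grothendieckTopology Y)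
    (fun I hI q => by
      haveI := hI
      haveI hfI := SiteBase.isFlasque_of_injective I
      haveI : TopCat.Sheaf.IsFlasque ((CohSite.push (Opens.grothendieckTopology Z) (Opens.grothendieckTopology Y)
          hj.isOpenMap.functor).obj I) := ⟨fun _ => hfI.epi _⟩
      exact SiteBase.subsingleton_HU_of_isFlasque (X := Y) _ ⊤ q) F n
  have hU : hj.isOpenMap.functor.obj ⊤ = rangeOpen j hj := Opens.ext Set.image_univ
  obtain ⟨e'⟩ := SiteBase.nonempty_HU_congr (J := Opens.grothendieckTopology Z) (eqToIso hU) F n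
  let i := (pullOpenIso j hj).app F
  exact ⟨((Sheaf.functorH (Opens.grothendieckTopology Y) n).mapIso i).addCommGroupIsoToAddEquiv.trans
    ((SiteBase.huTerminalEquiv isTerminalTop _ n).symm.trans (e.trans e'))⟩

/-- Cohomology on a space covered by disjoint open embeddings. -/
theorem nonempty_H_addEquiv_pi_pull {I : Type u} {Y : I → TopCat.{u}} (j : ∀ i, Y i ⟶ Z)
    (hj : ∀ i, IsOpenEmbedding (j i))
    (hdisj : Pairwise fun i k => Disjoint (Set.range (j i)) (Set.range (j k)))
    (hcov : ⋃ i, Set.range (j i) = Set.univ) (F : CohTop.Ab Z) (n : ℕ) :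
    Nonempty (CohTop.H F n ≃+ ∀ i, CohTop.H ((CohTop.pull (j i)).obj F) n) := by
  obtain ⟨e⟩ := nonempty_H_addEquiv_pi (fun i => rangeOpen (j i) (hj i)) hdisj hcov F n
  exact ⟨e.trans (AddEquiv.piCongrRight fun i => (nonempty_H_pull_addEquiv (j i) (hj i) F n).some.symm)⟩

end OpenEmb

end Groth.Agent.SoftTop
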