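import Groth.Prelude.Def_CohTop
import Mathlib.Topology.Sheaves.Sheafify
import Mathlib.Topology.Sheaves.Skyscraper
import Mathlib.CategoryTheory.Adjunction.Restrict

/-!
# Sheaves which are inverse images, detected on stalks
-/

set_option autoImplicit false
set_option backward.isDefEq.respectTransparency false
set_option backward.isDefEq.respectTransparency.types false
set_option linter.style.haveILetI false

universe u

open CategoryTheory CategoryTheory.Limits Opposite TopologicalSpace TopCat

noncomputable section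

namespace Groth.Agent.SoftTop

variable {Z X : TopCat.{u}} (i : Z ⟶ X)

/-- The map on stalks of a map to a direct image. -/
def stalkMap {P : TopCat.Presheaf AddCommGrpCat.{u} X} {H : TopCat.Presheaf AddCommGrpCat.{u} Z}
    (η : P ⟶ (TopCat.Presheaf.pushforward AddCommGrpCat.{u} i).obj H) (z : Z) : P.stalk (i z) ⟶ H.stalk z :=
  (TopCat.Presheaf.stalkFunctor AddCommGrpCat.{u} (i z)).map η ≫ H.stalkPushforward AddCommGrpCat.{u} i z

lemma germ_stalkMap {P : TopCat.Presheaf AddCommGrpCat.{u} X} {H : TopCat.Presheaf AddCommGrpCat.{u} Z}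
    (η : P ⟶ (TopCat.Presheaf.pushforward AddCommGrpCat.{u} i).obj H) (z : Z) (U : Opens X) (hz : i z ∈ U)
    (s : P.obj (op U)) :
    stalkMap i η z (P.germ U (i z) hz s) = H.germ ((Opens.map i).obj U) z hz (η.app (op U) s) := by
  show (P.germ U (i z) hz ≫ (TopCat.Presheaf.stalkFunctor AddCommGrpCat.{u} (i z)).map η ≫
    H.stalkPushforward AddCommGrpCat.{u} i z) s = _
  rw [TopCat.Presheaf.stalkFunctor_map_germ_assoc, TopCat.Presheaf.stalkPushforward_germ]
  rfl

/-- The data exhibiting a sheaf as an inverse image. -/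
structure PullData (F : CohTop.Ab X) (H : CohTop.Ab Z) where
  /-- The map to the direct image. -/
  η : F.obj ⟶ (TopCat.Presheaf.pushforward AddCommGrpCat.{u} i).obj H.obj
  bij : ∀ z, Function.Bijective (stalkMap i η z)

/-- The model of the inverse image. -/
abbrev pullModel : CohTop.Ab X ⥤ CohTop.Ab Z :=
  sheafToPresheaf _ _ ⋙ TopCat.Presheaf.pullback AddCommGrpCat.{u} i ⋙
    presheafToSheaf (Opens.grothendieckTopology Z) AddCommGrpCat.{u}

/-- The adjunction of the model. -/
def modelAdj : pullModel i ⊣ CohTop.push i :=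
  ((TopCat.Presheaf.pullbackPushforwardAdjunction AddCommGrpCat.{u} i).comp
    (sheafificationAdjunction (Opens.grothendieckTopology Z) AddCommGrpCat.{u})).restrictFullyFaithful
    (fullyFaithfulSheafToPresheaf _ _) (Functor.FullyFaithful.id _)
    ((Functor.associator _ _ _).symm ≪≫ (Functor.rightUnitor _).symm)
    (NatIso.ofComponents (fun _ => Iso.refl _) (fun f => (Category.comp_id _).trans (Category.id_comp _).symm))

lemma modelAdj_unit (F : CohTop.Ab X) :
    ((modelAdj i).unit.app F).hom = (TopCat.Presheaf.pullbackPushforwardAdjunction AddCommGrpCat.{u} i).unit.app F.obj ≫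
      (TopCat.Presheaf.pushforward AddCommGrpCat.{u} i).map
        (CategoryTheory.toSheafify (Opens.grothendieckTopology Z) ((TopCat.Presheaf.pullback AddCommGrpCat.{u} i).obj F.obj)) := by
  have h := Adjunction.map_restrictFullyFaithful_unit_app
    ((TopCat.Presheaf.pullbackPushforwardAdjunction AddCommGrpCat.{u} i).comp
      (sheafificationAdjunction (Opens.grothendieckTopology Z) AddCommGrpCat.{u}))
    (fullyFaithfulSheafToPresheaf (Opens.grothendieckTopology X) AddCommGrpCat.{u}) (Functor.FullyFaithful.id _)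
    (L := pullModel i) (R := CohTop.push i)
    ((Functor.associator _ _ _).symm ≪≫ (Functor.rightUnitor _).symm)
    (NatIso.ofComponents (fun _ => Iso.refl _) (fun f => (Category.comp_id _).trans (Category.id_comp _).symm)) F
  refine h.trans ?_
  simp
  try rfl

lemma bijective_model (F : CohTop.Ab X) (z : Z) :
    Function.Bijective (stalkMap i (H := ((pullModel i).obj F).obj) ((modelAdj i).unit.app F).hom z) := by
  let P := (TopCat.Presheaf.pullback AddCommGrpCat.{u} i).obj F.obj
  haveI := TopCat.Presheaf.stalkFunctor_map_unit_toSheafify_isIso z AddCommGrpCat.{u} P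
  have e : stalkMap i (H := ((pullModel i).obj F).obj) ((modelAdj i).unit.app F).hom z =
      (TopCat.Presheaf.stalkPullbackIso AddCommGrpCat.{u} i F.obj z).hom ≫
        (TopCat.Presheaf.stalkFunctor AddCommGrpCat.{u} z).map
          (CategoryTheory.toSheafify (Opens.grothendieckTopology Z) P) := by
    refine TopCat.Presheaf.stalk_hom_ext _ fun U hU => ?_
    refine ConcreteCategory.hom_ext _ _ fun s => ?_
    rw [ConcreteCategory.comp_apply, germ_stalkMap, modelAdj_unit]
    show _ = ((TopCat.Presheaf.germ F.obj U (i z) hU ≫ TopCat.Presheaf.stalkPullbackHom AddCommGrpCat.{u} i F.obj z) ≫ _) s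
    rw [TopCat.Presheaf.germ_stalkPullbackHom, Category.assoc, TopCat.Presheaf.stalkFunctor_map_germ]
    rfl
  rw [e]
  exact (ConcreteCategory.isIso_iff_bijective _).1 inferInstance

/-- The inverse image. -/
def pullData (F : CohTop.Ab X) : PullData i F ((CohTop.pull i).obj F) where
  η := ((TopCat.Sheaf.pullbackPushforwardAdjunction AddCommGrpCat.{u} i).unit.app F).hom
  bij z := by
    let e := (modelAdj i).leftAdjointUniq (TopCat.Sheaf.pullbackPushforwardAdjunction AddCommGrpCat.{u} i)
    have h : (TopCat.Sheaf.pullbackPushforwardAdjunction AddCommGrpCat.{u} i).unit.app F =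
        (modelAdj i).unit.app F ≫ (CohTop.push i).map (e.hom.app F) :=
      ((modelAdj i).unit_leftAdjointUniq_hom_app
        (TopCat.Sheaf.pullbackPushforwardAdjunction AddCommGrpCat.{u} i) F).symm
    haveI : IsIso ((TopCat.Presheaf.stalkFunctor AddCommGrpCat.{u} z).map (e.hom.app F).hom) :=
      inferInstanceAs (IsIso ((sheafToPresheaf _ _ ⋙ TopCat.Presheaf.stalkFunctor AddCommGrpCat.{u} z).map (e.hom.app F)))
    have e' : stalkMap i (H := ((CohTop.pull i).obj F).obj)
        ((TopCat.Sheaf.pullbackPushforwardAdjunction AddCommGrpCat.{u} i).unit.app F).hom z =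
        stalkMap i (H := ((pullModel i).obj F).obj) ((modelAdj i).unit.app F).hom z ≫
          (TopCat.Presheaf.stalkFunctor AddCommGrpCat.{u} z).map (e.hom.app F).hom := by
      refine TopCat.Presheaf.stalk_hom_ext _ fun U hU => ?_
      refine ConcreteCategory.hom_ext _ _ fun s => ?_
      rw [ConcreteCategory.comp_apply, ConcreteCategory.comp_apply, ConcreteCategory.comp_apply, germ_stalkMap, h]
      erw [germ_stalkMap]
      exact (TopCat.Presheaf.stalkFunctor_map_germ_apply _ _ _ (e.hom.app F).hom _).symm
    rw [e']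
    have hb := ((ConcreteCategory.isIso_iff_bijective
      ((TopCat.Presheaf.stalkFunctor AddCommGrpCat.{u} z).map (e.hom.app F).hom)).1 inferInstance).comp
        (bijective_model i F z)
    exact hb

variable {i} {F : CohTop.Ab X} {H : CohTop.Ab Z} (D : PullData i F H)

/-- Sections of the inverse image are locally inverse images of sections. -/
lemma PullData.exists_germ {V : Opens Z} (t : H.obj.obj (op V)) (z : Z) (hz : z ∈ V) :
    ∃ (U : Opens X) (hU : i z ∈ U) (s : F.obj.obj (op U)),
      TopCat.Presheaf.germ H.obj ((Opens.map i).obj U) z hU (D.η.app (op U) s) = TopCat.Presheaf.germ H.obj V z hz t := by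
  obtain ⟨w, hw⟩ := (D.bij z).2 (TopCat.Presheaf.germ H.obj V z hz t)
  obtain ⟨U, hU, s, rfl⟩ := TopCat.Presheaf.exists_germ_eq F.obj w
  exact ⟨U, hU, s, (germ_stalkMap i D.η z U hU s).symm.trans hw⟩

/-- Germs are determined by the germs of the inverse images. -/
lemma PullData.germ_eq {U U' : Opens X} (z : Z) (hU : i z ∈ U) (hU' : i z ∈ U') (s : F.obj.obj (op U))
    (s' : F.obj.obj (op U'))
    (h : TopCat.Presheaf.germ H.obj ((Opens.map i).obj U) z hU (D.η.app (op U) s) =
      TopCat.Presheaf.germ H.obj ((Opens.map i).obj U') z hU' (D.η.app (op U') s')) :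
    TopCat.Presheaf.germ F.obj U (i z) hU s = TopCat.Presheaf.germ F.obj U' (i z) hU' s' :=
  (D.bij z).1 ((germ_stalkMap i D.η z U hU s).trans (h.trans (germ_stalkMap i D.η z U' hU' s').symm))

/-- Inverse images of germs. -/
lemma PullData.germ_map {U U' : Opens X} (z : Z) (hU : i z ∈ U) (hU' : i z ∈ U') (s : F.obj.obj (op U))
    (s' : F.obj.obj (op U')) (h : TopCat.Presheaf.germ F.obj U (i z) hU s = TopCat.Presheaf.germ F.obj U' (i z) hU' s') :
    TopCat.Presheaf.germ H.obj ((Opens.map i).obj U) z hU (D.η.app (op U) s) =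
      TopCat.Presheaf.germ H.obj ((Opens.map i).obj U') z hU' (D.η.app (op U') s') :=
  (germ_stalkMap i D.η z U hU s).symm.trans ((congrArg _ h).trans (germ_stalkMap i D.η z U' hU' s'))

end Groth.Agent.SoftTop
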